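import Cfsg.Agent.H459.Inv.Base

/-!
# One element of order `p` is enough (helper126, for S3830)

* `ns_of_sq_not_dvd`: if `p ^ 2` does not divide the order of the group, one element of order `p` with `NS` is enough;
* `irow_of_inner`: the row from the inner automorphisms.
-/

set_option autoImplicit false

namespace Cfsg.Agent.H126.Inv

open Subgroup Cfsg.Agent.H459.Inv

variable {G : Type*} [Group G]

/-- conjugate elements -/
theorem ns_of_isConj {g u : G} (h : IsConj g u) (hg : NS (MulAut.conj g)) : NS (MulAut.conj u) := by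
  obtain ⟨c, hc⟩ := isConj_iff.1 h
  apply ns_of_conj (g := MulAut.conj c⁻¹)
  have h1 : MulAut.conj c⁻¹ * MulAut.conj u * (MulAut.conj c⁻¹)⁻¹ = MulAut.conj g := by
    rw [← map_inv, ← map_mul, ← map_mul, ← hc]
    congr 1
    group
  rw [h1]
  exact hg

/-- generators of the same cyclic group -/
theorem ns_of_zpowers [Finite G] {g u : G} (h : g ∈ zpowers u) (hg : NS (MulAut.conj g)) : NS (MulAut.conj u) := by
  classical
  obtain ⟨n, hn⟩ := (mem_powers_iff_mem_zpowers (x := u) (y := g)).2 h
  apply ns_of_pow (k := n)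
  have h1 : MulAut.conj u ^ n = MulAut.conj g := by
    rw [← map_pow]
    exact congrArg _ hn
  rw [h1]
  exact hg

/-- **Sylow subgroups of order `p`**: one element of order `p` is enough -/
theorem ns_of_sq_not_dvd [Finite G] {p : ℕ} [Fact p.Prime] (hpp : ¬ p * p ∣ Nat.card G) {g : G} (hg : orderOf g = p)
    (h : NS (MulAut.conj g)) {u : G} (hu : orderOf u = p) : NS (MulAut.conj u) := by
  have cg : Nat.card (zpowers g) = p := by rw [Nat.card_zpowers, hg]
  have cu : Nat.card (zpowers u) = p := by rw [Nat.card_zpowers, hu]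
  have key : ∀ P : Subgroup G, Nat.card P = p → ¬ p ∣ P.index := by
    rintro P hP ⟨k, hk⟩
    refine hpp ⟨k, ?_⟩
    rw [← Subgroup.card_mul_index P, hP, hk, mul_assoc]
  have isP : ∀ P : Subgroup G, Nat.card P = p → IsPGroup p P := fun P hP => by
    refine IsPGroup.of_card (n := 1) ?_
    rw [hP, pow_one]
  obtain ⟨c, hc⟩ := MulAction.exists_smul_eq G ((isP _ cg).toSylow (key _ cg)) ((isP _ cu).toSylow (key _ cu))
  have h1 : (zpowers g).map (MulAut.conj c).toMonoidHom = zpowers u :=
    congrArg (fun S : Sylow p G => (S : Subgroup G)) hc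
  have h2 : c * g * c⁻¹ ∈ zpowers u := by
    rw [← h1]
    exact ⟨g, mem_zpowers g, rfl⟩
  exact ns_of_zpowers h2 (ns_of_isConj (isConj_iff.2 ⟨c, rfl⟩) h)

/-- **The row from the elements**: the automorphisms of order `p` are inner -/
theorem irow_of_inner {p : ℕ} (hc : center G = ⊥) (hin : ∀ x : MulAut G, orderOf x = p → ∃ g : G, x = MulAut.conj g)
    (h : ∀ u : G, orderOf u = p → NS (MulAut.conj u)) : IRow p G := by
  intro x hx
  obtain ⟨g, rfl⟩ := hin x hx
  apply h
  rw [← hx]
  refine (orderOf_injective (MulAut.conj : G →* MulAut G) ?_ g).symm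
  rw [← MonoidHom.ker_eq_bot_iff, eq_bot_iff]
  intro z hz
  rw [← hc, mem_center_iff]
  intro y
  have h2 : MulAut.conj z y = y := by
    rw [MonoidHom.mem_ker.1 hz]
    rfl
  rw [MulAut.conj_apply] at h2
  calc y * z = (z * y * z⁻¹) * z := by rw [h2]
    _ = z * y := by group

/-- a simple group with a suitable element has trivial center -/
theorem center_of_ns [IsSimpleGroup G] {g : G} (h : NS (MulAut.conj g)) : center G = ⊥ := by
  rcases (inferInstance : (center G).Normal).eq_bot_or_eq_top with hc | hc
  · exact hc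
  · exfalso
    obtain ⟨y, -, hn⟩ := ns_inner_iff.1 h
    apply hn
    apply Group.isSolvable_of_comm
    intro a b
    have h1 : (b : G) ∈ center G := by rw [hc]; exact mem_top _
    exact Subtype.ext (mem_center_iff.1 h1 a)

end Cfsg.Agent.H126.Inv
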