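import Cfsg.Agent.H126.Inv.J4Words
import Cfsg.Agent.H126.Inv.Cyc
import Cfsg.Agent.H859.ClassEleven
import Cfsg.Agent.H859.BigCent
import Cfsg.Agent.KFacts.J4.SheetJ4

/-!
# The rows of `J4` for S3830 (helper126)
-/

set_option autoImplicit false

namespace Cfsg.Agent.H126.Inv.J4

open Subgroup Cfsg.Agent.H459.Inv Cfsg.Agent.H126.Inv Cfsg.Agent.H126.Inv.J4Words
open Cfsg.Agent.Lib.F2MatGroup Cfsg.Agent.J4.Rep112
open Cfsg.Agent.H859 (SylEleven.x ClassEleven.isConj_or)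

/-- `g11x` is the image of the element `f` of `M24` -/
theorem g11x_eq : g11x = Cfsg.Agent.J4.Pres.phi Cfsg.Agent.H859.M24Eleven.f := by
  have h : g11x = evG gens [0, 1, 0, 1, 0, 1, 0, 2, 0, 2, 0, 2] := rfl
  rw [h]
  unfold Cfsg.Agent.H859.M24Eleven.f Cfsg.Agent.H859.M24Eleven.wf
  simp only [Cfsg.Agent.J4.Nodes.wordG, Cfsg.Agent.J4.Nodes.letG0, Cfsg.Agent.J4.Nodes.letG1,
    Cfsg.Agent.J4.Nodes.letG2, map_mul, map_inv, map_one, Cfsg.Agent.J4.Pres.phi_X, Cfsg.Agent.J4.Pres.phi_Y]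
  rfl

theorem isConj_x : IsConj g11x Cfsg.Agent.H859.SylEleven.x := by
  obtain ⟨-, g, hg⟩ := Cfsg.Agent.H859.SylEleven.exists_x.choose_spec
  rw [g11x_eq]
  exact isConj_iff.2 ⟨g, hg.symm⟩

theorem finite_J4 : Finite Cfsg.Spor.J4 := by
  apply Nat.finite_of_card_ne_zero
  rw [Cfsg.Agent.S1703.result.2]
  norm_num

theorem isConj_c : IsConj g11c Cfsg.Agent.H859.NU.c := by
  rcases Cfsg.Agent.H859.ClassEleven.isConj_or g11c_ns.1 with h | h
  · exfalso
    have := finite_J4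
    obtain ⟨k, hk, hg⟩ := exists_h
    have h1 := Cfsg.Agent.H859.ClassEleven.card_centralizer_conj h
    rw [Cfsg.Agent.H859.SylEleven.card_centralizer_x_eq] at h1
    have h2 : k ^ 11 ∈ Subgroup.centralizer {g11c} := by
      rw [Subgroup.mem_centralizer_singleton_iff, hg, ← pow_add, ← pow_add]
    have h3 : orderOf (k ^ 11) = 3 := by
      rw [orderOf_pow, hk]
      norm_num
    have h4 := orderOf_dvd_natCard (⟨k ^ 11, h2⟩ : Subgroup.centralizer {g11c})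
    rw [← Subgroup.orderOf_coe, h1, h3] at h4
    norm_num at h4
  · exact h

/-- the elements of order `p` of `J4` -/
theorem ns_elem {p : ℕ} [Fact p.Prime] (hp : 5 ≤ p) {u : Cfsg.Spor.J4} (hu : orderOf u = p) :
    NS (MulAut.conj u) := by
  have := finite_J4
  have hcard := Cfsg.Agent.S1703.result.2
  have hpr : p.Prime := Fact.out
  have hd : p ∣ 2 ^ 21 * 3 ^ 3 * 5 * 7 * 11 ^ 3 * 23 * 29 * 31 * 37 * 43 := by
    have h1 : p ∣ Nat.card Cfsg.Spor.J4 := hu ▸ orderOf_dvd_natCard u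
    rw [hcard] at h1
    norm_num at h1 ⊢
    exact h1
  have key : ∀ q : ℕ, q.Prime → p ∣ q → p = q := fun q hq h => (Nat.prime_dvd_prime_iff_eq hpr hq).1 h
  have key' : ∀ (q k : ℕ), q.Prime → p ∣ q ^ k → p = q := fun q k hq h => key q hq (hpr.dvd_of_dvd_pow h)
  have hsq : ∀ q : ℕ, q = 5 ∨ q = 7 ∨ q = 23 ∨ q = 29 ∨ q = 31 ∨ q = 37 ∨ q = 43 → ¬ q * q ∣ Nat.card Cfsg.Spor.J4 := by
    intro q hq
    rw [hcard]
    rcases hq with rfl | rfl | rfl | rfl | rfl | rfl | rfl <;> norm_num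
  simp only [hpr.dvd_mul] at hd
  rcases hd with ((((((((h | h) | h) | h) | h) | h) | h) | h) | h) | h
  · exact absurd (key' 2 21 (by norm_num) h) (by omega)
  · exact absurd (key' 3 3 (by norm_num) h) (by omega)
  · obtain rfl := key 5 (by norm_num) h
    exact ns_of_sq_not_dvd (hsq 5 (by simp)) g5_ns.1 g5_ns.2 hu
  · obtain rfl := key 7 (by norm_num) h
    exact ns_of_sq_not_dvd (hsq 7 (by simp)) g7_ns.1 g7_ns.2 hu
  · obtain rfl := key' 11 3 (by norm_num) h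
    rcases Cfsg.Agent.H859.ClassEleven.isConj_or hu with h1 | h1
    · exact ns_of_isConj (isConj_x.trans (isConj_comm.1 h1)) g11x_ns.2
    · exact ns_of_isConj (isConj_c.trans (isConj_comm.1 h1)) g11c_ns.2
  · obtain rfl := key 23 (by norm_num) h
    exact ns_of_sq_not_dvd (hsq 23 (by simp)) g23_ns.1 g23_ns.2 hu
  · obtain rfl := key 29 (by norm_num) h
    exact ns_of_sq_not_dvd (hsq 29 (by simp)) g29_ns.1 g29_ns.2 hu
  · obtain rfl := key 31 (by norm_num) h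
    exact ns_of_sq_not_dvd (hsq 31 (by simp)) g31_ns.1 g31_ns.2 hu
  · obtain rfl := key 37 (by norm_num) h
    exact ns_of_sq_not_dvd (hsq 37 (by simp)) g37_ns.1 g37_ns.2 hu
  · obtain rfl := key 43 (by norm_num) h
    exact ns_of_sq_not_dvd (hsq 43 (by simp)) g43_ns.1 g43_ns.2 hu

/-- every automorphism of `J4` is inner -/
theorem inner (x : MulAut Cfsg.Spor.J4) : ∃ g, x = MulAut.conj g := by
  obtain ⟨h1, h2, ⟨F⟩⟩ := Cfsg.Agent.KFacts.J4.Base.exists_full (K := Cfsg.Spor.J4) ⟨MulEquiv.refl _⟩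
  exact Cfsg.Agent.KFacts.J4.SheetJ4.inner F x

/-- **The rows of `J4`** -/
theorem irow_J4 {K : Type*} [Group K] (h : Cfsg.Spor.IsoJ4 K) {p : ℕ} [Fact p.Prime] (hp : 5 ≤ p) : IRow p K := by
  obtain ⟨e⟩ := h
  have := Cfsg.Agent.S1703.result.1
  exact IRow.congr e (irow_of_inner (center_of_ns g5_ns.2) (fun x _ => inner x) fun u hu => ns_elem hp hu)

end Cfsg.Agent.H126.Inv.J4
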