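import Cfsg.Agent.H859.PGLWords
import Cfsg.Agent.H459.Inv.Base

/-!
# Triangles in the presented fourth Janko group (helper126, for S3830)

For each of the primes `5, 7, 11, 23, 29, 31, 37, 43` an explicit element `g` of this order and an involution `y` of
`J4` with `g y` of odd order prime to that of `g`.
-/

set_option autoImplicit false

namespace Cfsg.Agent.H126.Inv.J4Words

open Cfsg.Agent.Lib.F2MatGroup Cfsg.Agent.J4.Rep112 Cfsg.Agent.H859.PGLWords Cfsg.Agent.H459.Inv
open Cfsg.Agent.J4.Lower (evG_replicate evG_single)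

/-- the program `ws` computes `z, g, …` with `z = g y`, `y` an involution, `g` of order `p`, `z` of order dividing `m` -/
theorem ns_of_check {ws : List (List ℕ)} {p m : ℕ} (hp : p.Prime) (hp2 : p ≠ 2) (hm : Odd m) (hpm : m.Coprime p)
    {yw : List ℕ} {es ns : List (List ℕ × List ℕ)}
    (hc : check 112 codes ws ((List.replicate p 1, []) :: (yw ++ yw, []) :: (List.replicate m 0, []) ::
      ([0], 1 :: yw) :: es) (([1], []) :: (yw, []) :: ns) = true) :
    orderOf (getG (runG ws gens) 1) = p ∧ NS (MulAut.conj (getG (runG ws gens) 1)) := by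
  have : Fact p.Prime := ⟨hp⟩
  obtain ⟨h1, h2⟩ := check_J4 hc
  have e1 := h1 (List.replicate p 1, []) (by simp)
  have e2 := h1 (yw ++ yw, []) (by simp)
  have e3 := h1 (List.replicate m 0, []) (by simp)
  have e4 := h1 ([0], 1 :: yw) (by simp)
  have n1 := h2 ([1], []) (by simp)
  have n2 := h2 (yw, []) (by simp)
  rw [evG_replicate, evG_nil] at e1 e3
  rw [evG_single, evG_nil] at n1
  rw [evG_append, evG_nil] at e2
  rw [evG_nil] at n2
  rw [evG_single, evG_cons] at e4
  have hg : orderOf (getG (runG ws gens) 1) = p := orderOf_eq_prime e1 n1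
  refine ⟨hg, ?_⟩
  have : Fact (Nat.Prime 2) := ⟨Nat.prime_two⟩
  have hy : orderOf (evG (runG ws gens) yw) = 2 := orderOf_eq_prime (by rw [pow_two]; exact e2) n2
  have hz : orderOf (getG (runG ws gens) 1 * evG (runG ws gens) yw) ∣ m := by
    rw [← e4]
    exact orderOf_dvd_of_pow_eq_one e3
  refine ns_of_triangle hy ?_ (Odd.of_dvd_nat hm hz) ?_
  · rw [hg]
    exact hp.odd_of_ne_two hp2
  · rw [hg]
    exact Nat.Coprime.coprime_dvd_left hz hpm

/-- the program of `z, g, h` -/
def ws5 : List (List ℕ) := [[0, 1, 3, 2, 3, 2], [0, 0, 0, 0, 0, 0, 0], [0, 5]]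

theorem check5 : check 112 codes ws5 ((List.replicate 5 1, []) :: ([6] ++ [6], []) ::
    (List.replicate 7 0, []) :: ([0], 1 :: [6]) :: [])
    (([1], []) :: ([6], []) :: []) = true := by decide +kernel

/-- the element of order 5 -/
noncomputable def g5 : Cfsg.Spor.J4 := getG (runG ws5 gens) 1

theorem g5_ns : orderOf g5 = 5 ∧ NS (MulAut.conj g5) :=
  ns_of_check (by norm_num) (by norm_num) (by decide) (by decide) check5

/-- the program of `z, g, h` -/
def ws7 : List (List ℕ) := [[3, 1, 3, 1, 0, 1, 0, 1, 3, 1], [0, 0], [0, 5]]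

theorem check7 : check 112 codes ws7 ((List.replicate 7 1, []) :: ([6] ++ [6], []) ::
    (List.replicate 11 0, []) :: ([0], 1 :: [6]) :: [])
    (([1], []) :: ([6], []) :: []) = true := by decide +kernel

/-- the element of order 7 -/
noncomputable def g7 : Cfsg.Spor.J4 := getG (runG ws7 gens) 1

theorem g7_ns : orderOf g7 = 7 ∧ NS (MulAut.conj g7) :=
  ns_of_check (by norm_num) (by norm_num) (by decide) (by decide) check7

/-- the program of `z, g, h` -/
def ws11c : List (List ℕ) := [[0, 2, 0, 3, 1, 0, 2], [0, 0, 0], [0, 5]]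

theorem check11c : check 112 codes ws11c ((List.replicate 11 1, []) :: ([6] ++ [6], []) ::
    (List.replicate 15 0, []) :: ([0], 1 :: [6]) :: [(List.replicate 33 2, []), ([1], List.replicate 3 2)])
    (([1], []) :: ([6], []) :: [(List.replicate 11 2, [])]) = true := by decide +kernel

/-- the element of order 11 -/
noncomputable def g11c : Cfsg.Spor.J4 := getG (runG ws11c gens) 1

theorem g11c_ns : orderOf g11c = 11 ∧ NS (MulAut.conj g11c) :=
  ns_of_check (by norm_num) (by norm_num) (by decide) (by decide) check11c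

/-- the program of `z, g` -/
def ws11x : List (List ℕ) := [[0, 1, 0, 1, 0, 1, 0, 2, 0, 2, 0, 2], [0, 2, 1, 3]]

theorem check11x : check 112 codes ws11x ((List.replicate 11 1, []) :: ([3, 2, 4] ++ [3, 2, 4], []) ::
    (List.replicate 15 0, []) :: ([0], 1 :: [3, 2, 4]) :: [])
    (([1], []) :: ([3, 2, 4], []) :: []) = true := by decide +kernel

/-- the element of order 11 -/
noncomputable def g11x : Cfsg.Spor.J4 := getG (runG ws11x gens) 1

theorem g11x_ns : orderOf g11x = 11 ∧ NS (MulAut.conj g11x) :=
  ns_of_check (by norm_num) (by norm_num) (by decide) (by decide) check11x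

/-- the program of `z, g` -/
def ws23 : List (List ℕ) := [[0, 3, 1, 3, 2, 3, 2], [0, 1, 4]]

theorem check23 : check 112 codes ws23 ((List.replicate 23 1, []) :: ([2, 5] ++ [2, 5], []) ::
    (List.replicate 3 0, []) :: ([0], 1 :: [2, 5]) :: [])
    (([1], []) :: ([2, 5], []) :: []) = true := by decide +kernel

/-- the element of order 23 -/
noncomputable def g23 : Cfsg.Spor.J4 := getG (runG ws23 gens) 1

theorem g23_ns : orderOf g23 = 23 ∧ NS (MulAut.conj g23) :=
  ns_of_check (by norm_num) (by norm_num) (by decide) (by decide) check23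

/-- the program of `z, g` -/
def ws29 : List (List ℕ) := [[0, 3, 1, 3, 1, 0, 3, 2, 0, 3, 2, 3, 2], [0, 1, 4]]

theorem check29 : check 112 codes ws29 ((List.replicate 29 1, []) :: ([2, 5] ++ [2, 5], []) ::
    (List.replicate 3 0, []) :: ([0], 1 :: [2, 5]) :: [])
    (([1], []) :: ([2, 5], []) :: []) = true := by decide +kernel

/-- the element of order 29 -/
noncomputable def g29 : Cfsg.Spor.J4 := getG (runG ws29 gens) 1

theorem g29_ns : orderOf g29 = 29 ∧ NS (MulAut.conj g29) :=
  ns_of_check (by norm_num) (by norm_num) (by decide) (by decide) check29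

/-- the program of `z, g` -/
def ws31 : List (List ℕ) := [[3, 2, 3, 1, 0, 2, 0, 2, 3, 1], [0, 4]]

theorem check31 : check 112 codes ws31 ((List.replicate 31 1, []) :: ([5] ++ [5], []) ::
    (List.replicate 3 0, []) :: ([0], 1 :: [5]) :: [])
    (([1], []) :: ([5], []) :: []) = true := by decide +kernel

/-- the element of order 31 -/
noncomputable def g31 : Cfsg.Spor.J4 := getG (runG ws31 gens) 1

theorem g31_ns : orderOf g31 = 31 ∧ NS (MulAut.conj g31) :=
  ns_of_check (by norm_num) (by norm_num) (by decide) (by decide) check31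

/-- the program of `z, g` -/
def ws37 : List (List ℕ) := [[3, 2, 0, 3, 1, 0, 3, 1], [0, 4]]

theorem check37 : check 112 codes ws37 ((List.replicate 37 1, []) :: ([5] ++ [5], []) ::
    (List.replicate 3 0, []) :: ([0], 1 :: [5]) :: [])
    (([1], []) :: ([5], []) :: []) = true := by decide +kernel

/-- the element of order 37 -/
noncomputable def g37 : Cfsg.Spor.J4 := getG (runG ws37 gens) 1

theorem g37_ns : orderOf g37 = 37 ∧ NS (MulAut.conj g37) :=
  ns_of_check (by norm_num) (by norm_num) (by decide) (by decide) check37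

/-- the program of `z, g` -/
def ws43 : List (List ℕ) := [[0, 3, 2, 0, 3, 1, 0, 3, 1], [0, 1, 4]]

theorem check43 : check 112 codes ws43 ((List.replicate 43 1, []) :: ([2, 5] ++ [2, 5], []) ::
    (List.replicate 3 0, []) :: ([0], 1 :: [2, 5]) :: [])
    (([1], []) :: ([2, 5], []) :: []) = true := by decide +kernel

/-- the element of order 43 -/
noncomputable def g43 : Cfsg.Spor.J4 := getG (runG ws43 gens) 1

theorem g43_ns : orderOf g43 = 43 ∧ NS (MulAut.conj g43) :=
  ns_of_check (by norm_num) (by norm_num) (by decide) (by decide) check43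

theorem getG_cons_one {G : Type*} [Group G] (a b : G) (L : List G) : getG (a :: b :: L) 1 = b := rfl

/-- `g11c` is the cube of an element of order 33 -/
theorem exists_h : ∃ h : Cfsg.Spor.J4, orderOf h = 33 ∧ g11c = h ^ 3 := by
  obtain ⟨h1, h2⟩ := check_J4 check11c
  have e1 := h1 (List.replicate 33 2, []) (by simp)
  have e2 := h1 ([1], List.replicate 3 2) (by simp)
  have n1 := h2 (List.replicate 11 2, []) (by simp)
  rw [evG_replicate, evG_nil] at e1 n1
  rw [evG_single, evG_replicate] at e2
  refine ⟨getG (runG ws11c gens) 2, ?_, e2⟩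
  have h3 : orderOf (getG (runG ws11c gens) 2) ∣ 33 := orderOf_dvd_of_pow_eq_one e1
  have h4 : ¬ orderOf (getG (runG ws11c gens) 2) ∣ 11 := fun h => n1 (orderOf_dvd_iff_pow_eq_one.1 h)
  have h5 : ¬ orderOf (getG (runG ws11c gens) 2) ∣ 3 := by
    intro h
    have h6 := g11c_ns.1
    have h7 : g11c = 1 := by
      show getG (runG ws11c gens) 1 = 1
      rw [e2]
      exact orderOf_dvd_iff_pow_eq_one.1 h
    rw [h7, orderOf_one] at h6
    exact absurd h6 (by norm_num)
  have h8 : orderOf (getG (runG ws11c gens) 2) ∈ Nat.divisors 33 := Nat.mem_divisors.2 ⟨h3, by norm_num⟩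
  have h9 : Nat.divisors 33 = {1, 3, 11, 33} := by decide
  rw [h9] at h8
  simp only [Finset.mem_insert, Finset.mem_singleton] at h8
  rcases h8 with h | h | h | h
  · rw [h] at h4
    exact absurd (by norm_num : 1 ∣ 11) h4
  · rw [h] at h5
    exact absurd (by norm_num : 3 ∣ 3) h5
  · rw [h] at h4
    exact absurd (by norm_num : 11 ∣ 11) h4
  · exact h

end Cfsg.Agent.H126.Inv.J4Words
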